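import Mathlib.RingTheory.Smooth.NoetherianDescent
import Mathlib.RingTheory.Smooth.Flat
import Mathlib.RingTheory.Etale.Basic
import Mathlib.RingTheory.Unramified.Field
import Mathlib.RingTheory.Flat.Stability
import Mathlib.RingTheory.Ideal.MinimalPrime.Noetherian
import Mathlib.RingTheory.LocalRing.ResidueField.Ideal

/-!
Étale algebras over reduced rings are reduced.
-/

namespace Groth.Agent.EtaleLib

universe u

open TensorProduct

variable {A : Type u} [CommRing A]

theorem isReduced_of_etale_field (L B : Type u) [Field L] [CommRing B] [Algebra L B]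
    (h : Algebra.Etale L B) : IsReduced B :=
  Algebra.FormallyUnramified.isReduced_of_field L B

theorem isReduced_baseChange_of_fg (A₁ : Subalgebra ℤ A) (h₁ : A₁.FG) [IsReduced A]
    (B₁ : Type u) [CommRing B₁] [Algebra A₁ B₁] [Module.Flat A₁ B₁]
    [Algebra.Etale A (A ⊗[A₁] B₁)] : IsReduced B₁ := by
  classical
  have : Algebra.FiniteType ℤ A₁ := (Subalgebra.fg_iff_finiteType A₁).1 h₁
  have : IsNoetherianRing A₁ := Algebra.FiniteType.isNoetherianRing ℤ A₁
  have hinj : Function.Injective (algebraMap A₁ A) := Subtype.val_injective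
  have : IsReduced A₁ := isReduced_of_injective (algebraMap A₁ A) hinj
  let s := minimalPrimes A₁
  have : Finite s := (minimalPrimes.finite_of_isNoetherianRing A₁).to_subtype
  have := Fintype.ofFinite s
  have hp : ∀ p : s, ∃ P : Ideal A, P.IsPrime ∧ P.comap (algebraMap A₁ A) = p.1 := by
    intro p
    obtain ⟨P, hP, -, h⟩ := Ideal.exists_comap_eq_of_mem_minimalPrimes (algebraMap A₁ A) (I := ⊥) p.1
      (by rw [show (⊥ : Ideal A).comap (algebraMap A₁ A) = ⊥ from RingHom.ker_eq_bot_iff_eq_zero _ |>.2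
        fun x hx => hinj (hx.trans (map_zero _).symm)]; exact p.2)
    exact ⟨P, hP, h⟩
  choose P hP hPc using hp
  have hred : ∀ p : s, IsReduced ((P p).ResidueField ⊗[A₁] B₁) := by
    intro p
    let L := (P p).ResidueField
    have e : L ⊗[A] (A ⊗[A₁] B₁) ≃ₐ[L] L ⊗[A₁] B₁ :=
      Algebra.TensorProduct.cancelBaseChange A₁ A L L B₁
    have hh : Algebra.Etale A (A ⊗[A₁] B₁) := by
      assumption
    have : Algebra.Etale L (L ⊗[A] (A ⊗[A₁] B₁)) := @Algebra.Etale.baseChange A (A ⊗[A₁] B₁) L _ _ _ _ _ hh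
    have : IsReduced (L ⊗[A] (A ⊗[A₁] B₁)) :=
      isReduced_of_etale_field L _ this
    exact isReduced_of_injective e.symm e.symm.injective
  let φ : A₁ →ₗ[A₁] (Π p : s, (P p).ResidueField) :=
    LinearMap.pi fun p => (Algebra.linearMap A₁ (P p).ResidueField)
  have hφ : Function.Injective φ := by
    rw [← LinearMap.ker_eq_bot, Submodule.eq_bot_iff]
    intro a ha
    have h1 : a ∈ sInf (minimalPrimes A₁) := by
      refine Submodule.mem_sInf.2 fun p hp => ?_
      have h2 : algebraMap A₁ (P ⟨p, hp⟩).ResidueField a = 0 := congrFun ha ⟨p, hp⟩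
      rw [IsScalarTower.algebraMap_apply A₁ A (P ⟨p, hp⟩).ResidueField,
        Ideal.algebraMap_residueField_eq_zero] at h2
      have h3 : a ∈ (P ⟨p, hp⟩).comap (algebraMap A₁ A) := h2
      rwa [hPc] at h3
    rw [minimalPrimes, Ideal.sInf_minimalPrimes] at h1
    exact IsReduced.eq_zero a h1
  refine ⟨fun x hx => ?_⟩
  have h0 : ∀ p : s, (1 : (P p).ResidueField) ⊗ₜ[A₁] x = 0 := fun p =>
    (hred p).eq_zero _ (hx.map (Algebra.TensorProduct.includeRight :
      B₁ →ₐ[A₁] (P p).ResidueField ⊗[A₁] B₁))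
  have h4 : φ.rTensor B₁ (1 ⊗ₜ x) = 0 := by
    apply (TensorProduct.piLeft A₁ B₁ fun p : s => (P p).ResidueField).injective
    rw [map_zero]
    ext p
    simpa [φ] using h0 p
  have h5 : (1 : A₁) ⊗ₜ[A₁] x = 0 :=
    Module.Flat.rTensor_preserves_injective_linearMap φ hφ (h4.trans (map_zero _).symm)
  simpa using congrArg (TensorProduct.lid A₁ B₁) h5

theorem isReduced_of_etale (B : Type u) [CommRing B] [Algebra A B] [Algebra.Etale A B]
    [IsReduced A] : IsReduced B := by
  classical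
  obtain ⟨A₀, B₀, _, _, h₀, hs, ⟨e⟩⟩ := Algebra.Smooth.exists_subalgebra_fg ℤ A B
  have : Algebra.Etale A (A ⊗[A₀] B₀) := Algebra.Etale.of_equiv e
  suffices IsReduced (A ⊗[A₀] B₀) from isReduced_of_injective e e.injective
  refine ⟨fun x hx => ?_⟩
  obtain ⟨n, hn⟩ := hx
  obtain ⟨t, ht⟩ := TensorProduct.exists_finset x
  let A₁ : Subalgebra ℤ A := A₀ ⊔ Algebra.adjoin ℤ ((t.image Prod.fst : Finset A) : Set A)
  have h₁ : A₁.FG := h₀.sup (Subalgebra.fg_adjoin_finset _)
  have hle : A₀ ≤ A₁ := le_sup_left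
  let _ : Algebra A₀ A₁ := (Subalgebra.inclusion hle).toRingHom.toAlgebra
  have : IsScalarTower A₀ A₁ A := .of_algebraMap_eq fun _ => rfl
  have : Module.Flat A₀ B₀ := inferInstance
  let B₁ := A₁ ⊗[A₀] B₀
  have : Module.Flat A₁ B₁ := inferInstance
  let e₁ : A ⊗[A₁] B₁ ≃ₐ[A] A ⊗[A₀] B₀ := Algebra.TensorProduct.cancelBaseChange A₀ A₁ A A B₀
  have : Algebra.Etale A (A ⊗[A₁] B₁) := Algebra.Etale.of_equiv e₁.symm
  have := isReduced_baseChange_of_fg A₁ h₁ B₁
  let g : B₁ →ₐ[A₀] A ⊗[A₀] B₀ :=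
    Algebra.TensorProduct.map (IsScalarTower.toAlgHom A₀ A₁ A) (AlgHom.id A₀ B₀)
  have hg : Function.Injective g :=
    Module.Flat.rTensor_preserves_injective_linearMap (M := B₀)
      (IsScalarTower.toAlgHom A₀ A₁ A).toLinearMap Subtype.val_injective
  have hmem : ∀ z ∈ t, z.1 ∈ A₁ := fun z hz =>
    (le_sup_right : _ ≤ A₁) (Algebra.subset_adjoin (Finset.mem_image_of_mem _ hz))
  obtain ⟨y, rfl⟩ : ∃ y, g y = x := by
    refine ⟨∑ z ∈ t.attach, (⟨z.1.1, hmem z.1 z.2⟩ : A₁) ⊗ₜ z.1.2, ?_⟩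
    rw [map_sum, ht, ← Finset.sum_attach t]
    rfl
  rw [← map_pow] at hn
  rw [IsReduced.eq_zero y ⟨n, hg (hn.trans (map_zero g).symm)⟩, map_zero]

/-- Radical ideals extend to radical ideals along étale maps. -/
theorem isRadical_map_of_etale {B : Type u} [CommRing B] [Algebra A B] [Algebra.Etale A B]
    {I : Ideal A} (hI : I.IsRadical) : (I.map (algebraMap A B)).IsRadical := by
  have : IsReduced (A ⧸ I) := (Ideal.isRadical_iff_quotient_reduced I).1 hI
  have : IsReduced ((A ⧸ I) ⊗[A] B) := isReduced_of_etale (A := A ⧸ I) _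
  rw [Ideal.isRadical_iff_quotient_reduced]
  let e := (Algebra.TensorProduct.quotIdealMapEquivTensorQuot B I).toRingEquiv.trans
    (Algebra.TensorProduct.comm A B (A ⧸ I)).toRingEquiv
  exact isReduced_of_injective e e.injective

end Groth.Agent.EtaleLib
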